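import Cfsg.Agent.Lib.SixPointRecognition.Main

/-!
# The symmetric group of degree six from the local data
-/

set_option autoImplicit false
set_option linter.style.haveILetI false

namespace Cfsg.Agent.Lib.SixPointRecognition

open Subgroup Cfsg
open scoped commutatorElement

universe u

variable {G : Type u} [Group G] [Finite G] {P : Sylow 3 G} {N : Subgroup G}

theorem dih_commute_cases : ∀ h k : DihedralGroup 4, h * h ≠ 1 → k * k = 1 → k * h = h * k →
    k = 1 ∨ k = h * h := by decide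

theorem dih_central_sq : ∀ a b : DihedralGroup 4, a * a * b = b * (a * a) := by decide

/-- If the simple normal subgroup `K` is not the whole group then its automiser at `P` is cyclic. -/
theorem centralizer_inf (D : Setting (P : Subgroup G) N) (hP : ¬ (P : Subgroup G).Normal)
    (K : Subgroup G) [K.Normal] [IsSimpleGroup K] (hPK : (P : Subgroup G) ≤ K) (hK : K ≠ ⊤) :
    ∀ k ∈ K, ∀ x ∈ (P : Subgroup G), x ≠ 1 → k * x = x * k → k ∈ (P : Subgroup G) := by
  classical
  haveI : Fact (Nat.Prime 3) := ⟨Nat.prime_three⟩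
  set S := (P : Subgroup G) with hS
  set Mb := (K.subgroupOf N).map D.π with hMb
  haveI hMn : Mb.Normal := (inferInstance : (K.subgroupOf N).Normal).map _ D.π_surj
  have hMtop : Mb ≠ ⊤ := by
    intro h
    refine hK (top_le_iff.1 ?_)
    have hNK : N ≤ K := by
      intro n hn
      have hm : D.π ⟨n, hn⟩ ∈ Mb := by rw [h]; exact mem_top _
      obtain ⟨a, ha, hab⟩ := hm
      have h1 : ((a⁻¹ * ⟨n, hn⟩ : N) : G) ∈ S := (D.π_eq_one _).1 (by rw [map_mul, map_inv, hab, inv_mul_cancel])
      have h2 := mul_mem (mem_subgroupOf.1 ha) (hPK h1)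
      simpa using h2
    intro g _
    obtain ⟨n, hn, k, hk, rfl⟩ := mem_sup_of_normal_right.1
      (show g ∈ normalizer (S : Set G) ⊔ K by
        rw [show normalizer (S : Set G) ⊔ K = ⊤ from ?_]
        · exact mem_top g
        · have := (P.subtype hPK).normalizer_sup_eq_top
          rwa [Sylow.coe_subtype, subgroupOf_map_subtype, inf_eq_left.2 hPK] at this)
    exact mul_mem (hNK (D.normal ▸ hn)) hk
  have hcard8 : Nat.card (DihedralGroup 4) = 8 := DihedralGroup.nat_card
  obtain ⟨j, hj, hMc⟩ := (Nat.dvd_prime_pow Nat.prime_two).1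
    (show Nat.card Mb ∣ 2 ^ 3 from (card_subgroup_dvd_card Mb).trans (dvd_of_eq hcard8))
  have hj2 : j ≤ 2 := by
    by_contra hlt
    exact hMtop ((card_eq_iff_eq_top Mb).1 (by rw [hMc, hcard8, show j = 3 by omega]; rfl))
  have hcomm : ∀ a ∈ Mb, ∀ b ∈ Mb, a * b = b * a := by
    intro a ha b hb
    haveI : Fact (Nat.Prime 2) := ⟨Nat.prime_two⟩
    interval_cases j
    · rw [pow_zero, Subgroup.card_eq_one] at hMc
      rw [hMc, mem_bot] at ha
      simp [ha]
    · haveI : IsCyclic Mb := isCyclic_of_prime_card (by rw [hMc, pow_one])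
      exact congrArg Subtype.val ((IsCyclic.commGroup (α := Mb)).mul_comm ⟨a, ha⟩ ⟨b, hb⟩)
    · haveI := IsPGroup.isMulCommutative_of_card_eq_prime_sq (G := Mb) hMc
      exact congrArg Subtype.val ((IsMulCommutative.is_comm (M := Mb)).comm ⟨a, ha⟩ ⟨b, hb⟩)
  have hcore : (∀ u ∈ Mb, u * u = 1 → ∀ b, u * b = b * u) := by
    intro u hu hu2 b
    by_contra hne
    have hall : ∀ h ∈ Mb, h * h = 1 := by
      intro h hh
      by_contra hh2
      rcases dih_commute_cases h u hh2 hu2 (hcomm u hu h hh) with e | e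
      · rw [e] at hne; simp at hne
      · rw [e] at hne; exact hne (dih_central_sq h b)
    -- four elements of exponent two
    set u' := b * u * b⁻¹ with hu'
    have hu'M : u' ∈ Mb := hMn.conj_mem u hu b
    have hne' : u' ≠ u := fun e => hne ((mul_inv_eq_iff_eq_mul.1 e).symm)
    have hu1 : u ≠ 1 := fun e => hne (by simp [e])
    have hu'1 : u' ≠ 1 := fun e => hu1 (conj_eq_one_iff.1 e)
    have hj2' : Nat.card Mb = 4 := by
      have h3 : ({⟨1, Mb.one_mem⟩, ⟨u, hu⟩, ⟨u', hu'M⟩} : Finset Mb).card = 3 := by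
        rw [Finset.card_insert_of_notMem, Finset.card_pair]
        · exact fun e => hne' (congrArg Subtype.val e).symm
        · simp only [Finset.mem_insert, Finset.mem_singleton, Subtype.mk.injEq, not_or]
          exact ⟨Ne.symm hu1, Ne.symm hu'1⟩
      haveI := Fintype.ofFinite Mb
      have h4 := Finset.card_le_univ ({⟨1, Mb.one_mem⟩, ⟨u, hu⟩, ⟨u', hu'M⟩} : Finset Mb)
      rw [h3, ← Nat.card_eq_fintype_card, hMc] at h4
      interval_cases j <;> simp_all
    -- the Klein case
    set P' := P.subtype hPK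
    have hP' : (P' : Subgroup K) = S.subgroupOf K := Sylow.coe_subtype ..
    have hnorm : ∀ k : K, k ∈ normalizer ((P' : Subgroup K) : Set K) → (k : G) ∈ N := by
      intro k hk
      rw [D.normal, mem_normalizer_iff]
      intro z
      constructor
      · intro hz
        exact mem_subgroupOf.1 (hP' ▸ (mem_normalizer_iff.1 hk ⟨z, hPK hz⟩).1
          (hP'.symm ▸ mem_subgroupOf.2 hz))
      · intro hz
        have hzK : z ∈ K := by
          have h1 := mul_mem (mul_mem (inv_mem k.2) (hPK hz)) k.2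
          simpa [mul_assoc] using h1
        exact mem_subgroupOf.1 (hP' ▸ (mem_normalizer_iff.1 hk ⟨z, hzK⟩).2
          (hP'.symm ▸ mem_subgroupOf.2 hz))
    let θ : ↥(normalizer ((P' : Subgroup K) : Set K)) →* DihedralGroup 4 := D.π.comp
      { toFun := fun k => (⟨((k : K) : G), hnorm k k.2⟩ : N), map_one' := rfl, map_mul' := fun _ _ => rfl }
    have hker : θ.ker = (P' : Subgroup K).subgroupOf _ := by
      ext k
      rw [MonoidHom.mem_ker, mem_subgroupOf]
      exact (D.π_eq_one _).trans (((SetLike.ext_iff.1 hP') (k : K)).trans mem_subgroupOf).symm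
    have hrange : θ.range = Mb := by
      ext d
      constructor
      · rintro ⟨k, rfl⟩
        exact ⟨⟨((k : K) : G), hnorm k k.2⟩, (k : K).2, rfl⟩
      · rintro ⟨⟨n, hn⟩, hnK, rfl⟩
        refine ⟨⟨⟨n, hnK⟩, mem_normalizer_iff.2 fun z => ?_⟩, rfl⟩
        rw [hP', mem_subgroupOf, mem_subgroupOf]
        have hn' : n ∈ normalizer (S : Set G) := D.normal ▸ hn
        exact (mem_normalizer_iff.1 hn') z
    haveI hnS : ((P' : Subgroup K).subgroupOf (normalizer ((P' : Subgroup K) : Set K))).Normal :=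
      normal_in_normalizer
    let e : ↥(normalizer ((P' : Subgroup K) : Set K)) ⧸
        ((P' : Subgroup K).subgroupOf (normalizer ((P' : Subgroup K) : Set K))) ≃* Mb :=
      ((QuotientGroup.quotientMulEquivOfEq hker.symm).trans
        (QuotientGroup.quotientKerEquivRange θ)).trans (MulEquiv.subgroupCongr hrange)
    have hklein : IsKleinFour (↥(normalizer ((P' : Subgroup K) : Set K)) ⧸
        ((P' : Subgroup K).subgroupOf (normalizer ((P' : Subgroup K) : Set K)))) := by
      refine ⟨by rw [Nat.card_congr e.toEquiv, hj2'], ?_⟩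
      rw [Monoid.exponent_eq_of_mulEquiv e]
      refine ((Nat.dvd_prime Nat.prime_two).1 (Monoid.exponent_dvd_of_forall_pow_eq_one
        fun h => Subtype.ext ?_)).resolve_left ?_
      · rw [SubgroupClass.coe_pow, pow_two]
        exact hall h h.2
      · intro h1
        exact hu1 (congrArg Subtype.val (Monoid.exp_eq_one_iff.1 h1 |>.allEq ⟨u, hu⟩ 1))
    refine hP (normal_of_normal_in K hPK ?_)
    have htop := Cfsg.Agent.S3805.result (G := K) P'
      ⟨⟨⟨fun a b => Subtype.ext (Subtype.ext (D.commute (mem_subgroupOf.1 (hP' ▸ a.2))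
        (mem_subgroupOf.1 (hP' ▸ b.2))))⟩⟩, fun a ha =>
        Subtype.ext (D.exp_three (mem_subgroupOf.1 (hP' ▸ ha)))⟩
      (by rw [hP', Nat.card_congr (subgroupOfEquivOfLe hPK).toEquiv]; exact D.card_S)
      (by
        refine le_antisymm (fun k hk => ?_) (fun k hk => mem_centralizer_iff.2 fun z hz => ?_)
        · rw [hP', mem_subgroupOf, ← D.self, mem_centralizer_iff]
          intro z hz
          exact congrArg Subtype.val (mem_centralizer_iff.1 hk ⟨z, hPK hz⟩
            (hP'.symm ▸ mem_subgroupOf.2 hz))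
        · exact Subtype.ext (D.commute (mem_subgroupOf.1 (hP' ▸ hz)) (mem_subgroupOf.1 (hP' ▸ hk))))
      hklein
      (by
        intro t ht ht1 k hk
        rw [hP', mem_subgroupOf] at ht
        have hkN : (k : G) ∈ N := D.cent _ ht (fun h => ht1 (Subtype.ext h))
          (mem_centralizer_singleton_iff.2 (congrArg Subtype.val (mem_centralizer_singleton_iff.1 hk)))
        refine mem_normalizer_iff.2 fun z => ?_
        rw [hP', mem_subgroupOf, mem_subgroupOf]
        rw [D.normal] at hkN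
        exact (mem_normalizer_iff.1 hkN) z)
    rw [normalizer_eq_top_iff, hP'] at htop
    exact htop
  intro k hk x hx hx1 hkx
  by_contra hkS
  have hkN : k ∈ N := D.cent x hx hx1 (mem_centralizer_singleton_iff.2 hkx)
  set u := D.π ⟨k, hkN⟩ with hu
  have huM : u ∈ Mb := ⟨⟨k, hkN⟩, mem_subgroupOf.2 hk, rfl⟩
  have hlift : ∀ t : N, (t : G) ∉ S → (∀ b, D.π t * b = b * D.π t) → (t : G) * x = x * t → False := by
    intro t htS hcen htx
    refine hx1 (D.fpf t.2 htS (fun n hn => ?_) hx htx)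
    have := (D.π_eq_one (t⁻¹ * (⟨n, hn⟩ * t * ⟨n, hn⟩⁻¹))).1 (by
      simp only [map_mul, map_inv]
      rw [← hcen, mul_inv_cancel_right, inv_mul_cancel])
    exact this
  by_cases hu2 : u * u = 1
  · exact hlift ⟨k, hkN⟩ hkS (hcore u huM hu2) hkx
  · refine hlift (⟨k, hkN⟩ * ⟨k, hkN⟩) (fun h => hu2 ?_) (fun b => ?_) ?_
    · rw [hu, ← map_mul, D.π_eq_one]; exact h
    · rw [map_mul]; exact dih_central_sq _ b
    · show k * k * x = x * (k * k)
      rw [mul_assoc, hkx, ← mul_assoc, hkx, mul_assoc]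

/-- The main reduction. -/
theorem normal_or_perm (D : Setting (P : Subgroup G) N) (hns : ¬ IsSimpleGroup G) :
    (P : Subgroup G).Normal ∨ Nonempty (G ≃* Equiv.Perm (Fin 6)) := by
  classical
  by_cases hP : (P : Subgroup G).Normal
  · exact Or.inl hP
  right
  haveI : Fact (Nat.Prime 3) := ⟨Nat.prime_three⟩
  set S := (P : Subgroup G) with hS
  have htopne : (⊤ : Subgroup G) ≠ ⊥ := by
    intro h
    have := D.card_S
    rw [show S = ⊥ from le_bot_iff.1 (h ▸ le_top), card_bot] at this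
    omega
  obtain ⟨K, ⟨hKn, hKb⟩, hKmin⟩ := Set.exists_min_image {L : Subgroup G | L.Normal ∧ L ≠ ⊥}
    (fun L => Nat.card L) (Set.toFinite _) ⟨⊤, inferInstance, htopne⟩
  haveI := hKn
  have hmin : ∀ X : Subgroup G, X.Normal → X ≤ K → X ≠ ⊥ → X = K :=
    fun X hX hle hne => eq_of_le_of_card_ge hle (hKmin X ⟨hX, hne⟩)
  haveI := isSimpleGroup_of_minimal D hP K hKb hmin
  have hPK : S ≤ K := le_of_normal D K hKb
  have hKt : K ≠ ⊤ := by
    intro h
    subst h
    exact hns ((Subgroup.topEquiv (G := G)).isSimpleGroup_congr.1 inferInstance)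
  have hC := centralizer_inf D hP K hPK hKt
  set P' := P.subtype hPK with hP'def
  have hP' : (P' : Subgroup K) = S.subgroupOf K := Sylow.coe_subtype ..
  have hP'card : Nat.card (P' : Subgroup K) = 9 := by
    rw [hP', Nat.card_congr (subgroupOfEquivOfLe hPK).toEquiv]; exact D.card_S
  have hncomm : ¬ IsMulCommutative K := by
    intro h
    refine hP (normal_of_normal_in K hPK ?_)
    exact ⟨fun a ha b => by rwa [h.is_comm.comm b a, mul_inv_cancel_right]⟩
  have hcent' : ∀ s ∈ (P' : Subgroup K), s ≠ 1 → centralizer ({s} : Set K) = (P' : Subgroup K) := by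
    intro s hs hs1
    rw [hP', mem_subgroupOf] at hs
    refine le_antisymm (fun k hk => ?_) (fun k hk => ?_)
    · rw [hP', mem_subgroupOf]
      exact hC k k.2 s hs (fun h => hs1 (Subtype.ext h))
        (congrArg Subtype.val (mem_centralizer_singleton_iff.1 hk))
    · rw [hP', mem_subgroupOf] at hk
      exact mem_centralizer_singleton_iff.2 (Subtype.ext (D.commute hk hs))
  -- facts on the orbit of an element of `S`
  have hMle : ∀ g ∈ K, g ∈ N → ∀ x ∈ S, g * x * g⁻¹ ∈ S := fun g _ hg x hx => D.conj_mem hg hx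
  -- two classes of elements of order three
  obtain ⟨a, haS, ha1⟩ : ∃ a ∈ S, a ≠ 1 := by
    by_contra h
    push Not at h
    have := D.card_S
    rw [show S = ⊥ from le_bot_iff.1 fun x hx => mem_bot.2 (h x hx), card_bot] at this
    omega
  have hfus : ∀ x ∈ S, ∀ g ∈ K, g * x * g⁻¹ ∈ S → ∃ m ∈ K ⊓ N, m * x * m⁻¹ = g * x * g⁻¹ := by
    intro x hx g hg hgx
    haveI : IsMulCommutative (P' : Subgroup K) := ⟨⟨fun u v => Subtype.ext (Subtype.ext
      (D.commute (mem_subgroupOf.1 (hP' ▸ u.2)) (mem_subgroupOf.1 (hP' ▸ v.2))))⟩⟩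
    have hmem : ∀ k : K, k ∈ (P' : Subgroup K) ↔ (k : G) ∈ S := fun k => by
      rw [hP', mem_subgroupOf]
    obtain ⟨n, hn, he⟩ := P'.conj_eq_normalizer_conj_of_mem ⟨x, hPK hx⟩ (⟨g, hg⟩ : K)⁻¹
      ((hmem _).2 hx) ((hmem _).2 (by simpa using hgx))
    refine ⟨(n : G)⁻¹, ⟨K.inv_mem n.2, N.inv_mem ?_⟩, by
      have := congrArg Subtype.val he
      simpa using this.symm⟩
    rw [D.normal, mem_normalizer_iff]
    intro z
    have hn' := mem_normalizer_iff.1 hn
    constructor
    · intro hz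
      exact mem_subgroupOf.1 (hP' ▸ (hn' ⟨z, hPK hz⟩).1 (hP'.symm ▸ mem_subgroupOf.2 hz))
    · intro hz
      have hzK : z ∈ K := by
        have h1 := mul_mem (mul_mem (inv_mem n.2) (hPK hz)) n.2
        simpa [mul_assoc] using h1
      exact mem_subgroupOf.1 (hP' ▸ (hn' ⟨z, hzK⟩).2 (hP'.symm ▸ mem_subgroupOf.2 hz))
  have horb : ∀ x ∈ S, x ≠ 1 → ∀ Y : Finset G,
      (∀ y ∈ Y, ∃ m ∈ K ⊓ N, m * x * m⁻¹ = y) → Y.card * 9 ≤ Nat.card ↥(K ⊓ N) := by
    intro x hx hx1 Y hY
    choose m hm hmy using hY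
    let f : ↥Y × S → ↥(K ⊓ N) := fun p => ⟨m p.1 p.1.2 * p.2, mul_mem (hm p.1 p.1.2) ⟨hPK p.2.2, D.S_le p.2.2⟩⟩
    have hf : Function.Injective f := by
      rintro ⟨y, s⟩ ⟨y', s'⟩ e
      have e' : m y y.2 * s = m y' y'.2 * s' := congrArg Subtype.val e
      have hy : ∀ (z : ↥Y) (t : S), m z z.2 * t * x * (m z z.2 * t)⁻¹ = z := by
        intro z t
        calc m z z.2 * t * x * (m z z.2 * t)⁻¹ = m z z.2 * ((t : G) * x * (t : G)⁻¹) * (m z z.2)⁻¹ := by group
          _ = z := by rw [D.commute t.2 hx, mul_inv_cancel_right]; exact hmy z z.2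
      have h1 : y = y' := Subtype.ext (by rw [← hy y s, ← hy y' s', e'])
      subst h1
      exact Prod.ext rfl (Subtype.ext (mul_left_cancel e'))
    have := Nat.card_le_card_of_injective f hf
    rwa [Nat.card_prod, Nat.card_eq_fintype_card, Fintype.card_coe, D.card_S] at this
  have hKNdvd : Nat.card ↥(K ⊓ N) ∣ 72 := D.card_N ▸ card_dvd_of_le inf_le_right
  have hKNne : Nat.card ↥(K ⊓ N) ≠ 72 := by
    intro h
    have he : K ⊓ N = N := eq_of_le_of_card_ge inf_le_right (by rw [h, D.card_N])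
    refine hKt (top_le_iff.1 ?_)
    have := (P.subtype hPK).normalizer_sup_eq_top
    rw [Sylow.coe_subtype, subgroupOf_map_subtype, inf_eq_left.2 hPK, ← D.normal] at this
    rw [← this]
    exact sup_le (inf_eq_right.1 he) le_rfl
  haveI hsimp : IsSimpleGroup K := inferInstance
  have hiso : Nonempty (K ≃* alternatingGroup (Fin 6)) := by
    refine Cfsg.Agent.S3341.result P' (P' : Subgroup K) rfl
      ⟨⟨fun u v => Subtype.ext (Subtype.ext
        (D.commute (mem_subgroupOf.1 (hP' ▸ u.2)) (mem_subgroupOf.1 (hP' ▸ v.2))))⟩⟩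
      (fun u hu => Subtype.ext (D.exp_three (mem_subgroupOf.1 (hP' ▸ hu)))) hP'card ?_ hcent'
    by_contra hcon
    push Not at hcon
    haveI := Fintype.ofFinite G
    set Y : Finset G := Finset.univ.filter (fun y => y ∈ S ∧ y ≠ 1)
    have hYc : Y.card = 8 := by
      have h1 : insert (1 : G) Y = Finset.univ.filter (fun y => y ∈ S) := by
        ext y
        simp only [Y, Finset.mem_insert, Finset.mem_filter, Finset.mem_univ, true_and]
        exact ⟨fun h => h.elim (fun e => e ▸ one_mem _) And.left,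
          fun h => (em (y = 1)).imp id fun e => ⟨h, e⟩⟩
      have h2 := congrArg Finset.card h1
      rw [Finset.card_insert_of_notMem (by simp [Y])] at h2
      have h3 := D.card_S
      rw [Nat.card_eq_fintype_card, Fintype.card_subtype] at h3
      omega
    have hle := horb a haS ha1 Y fun y hy => by
      have hyS : y ∈ S ∧ y ≠ 1 := by simpa [Y] using hy
      obtain ⟨g, hg⟩ := hcon (⟨a, hPK haS⟩ : K) ⟨y, hPK hyS.1⟩
        (orderOf_eq_prime (Subtype.ext (D.exp_three haS)) fun e => ha1 (congrArg Subtype.val e))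
        (orderOf_eq_prime (Subtype.ext (D.exp_three hyS.1)) fun e => hyS.2 (congrArg Subtype.val e))
      have hg' : (g : G) * a * (g : G)⁻¹ = y := congrArg Subtype.val hg
      obtain ⟨m, hm, he⟩ := hfus a haS g g.2 (hg'.symm ▸ hyS.1)
      exact ⟨m, hm, he.trans hg'⟩
    rw [hYc] at hle
    have h72 : Nat.card ↥(K ⊓ N) ≤ 72 := Nat.le_of_dvd (by norm_num) hKNdvd
    omega
  obtain ⟨e⟩ := hiso
  have hK360 : Nat.card K = 360 := by
    rw [Nat.card_congr e.toEquiv, nat_card_alternatingGroup]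
    · rw [Nat.card_fin]; rfl
  have hKN : Nat.card ↥(K ⊓ N) = 36 := by
    have h1 := SmallGroups.Order360.card_normalizer_three hK360 P'
    have h2 : normalizer ((P' : Subgroup K) : Set K) = N.subgroupOf K := by
      ext k
      rw [mem_subgroupOf, D.normal, mem_normalizer_iff, mem_normalizer_iff]
      constructor
      · intro h z
        constructor
        · intro hz
          exact mem_subgroupOf.1 (hP' ▸ (h ⟨z, hPK hz⟩).1 (hP'.symm ▸ mem_subgroupOf.2 hz))
        · intro hz
          have hzK : z ∈ K := by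
            have h1 := mul_mem (mul_mem (inv_mem k.2) (hPK hz)) k.2
            simpa [mul_assoc] using h1
          exact mem_subgroupOf.1 (hP' ▸ (h ⟨z, hzK⟩).2 (hP'.symm ▸ mem_subgroupOf.2 hz))
      · intro h z
        rw [hP', mem_subgroupOf, mem_subgroupOf]
        exact h z
    rw [h2, ← inf_subgroupOf_left, Nat.card_congr (subgroupOfEquivOfLe inf_le_left).toEquiv] at h1
    exact h1
  have hmul : ∀ {X Y : Subgroup G}, X ≤ Y → Nat.card X * X.relIndex Y = Nat.card Y := by
    intro X Y h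
    have := Subgroup.relIndex_mul_relIndex ⊥ X Y bot_le h
    rwa [relIndex_bot_left, relIndex_bot_left] at this
  have hrel : (K ⊓ N).relIndex N = 2 := by
    have := hmul (inf_le_right : K ⊓ N ≤ N)
    rw [hKN, D.card_N] at this
    omega
  have hG720 : Nat.card G = 720 := by
    have h1 : N ⊔ K = ⊤ := by
      have := (P.subtype hPK).normalizer_sup_eq_top
      rwa [Sylow.coe_subtype, subgroupOf_map_subtype, inf_eq_left.2 hPK, ← D.normal] at this
    have h2 : K.index = 2 := by
      rw [← relIndex_top_right, ← h1, relIndex_sup_right, ← inf_relIndex_right, hrel]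
    rw [← Subgroup.card_mul_index K, hK360, h2]
  -- `N` does not fuse the two classes
  have horbit : ∀ n ∈ N, ∀ y ∈ S, y ≠ 1 → ∃ m ∈ K ⊓ N, m * y * m⁻¹ = n * y * n⁻¹ := by
    intro n hn y hy hy1
    obtain ⟨c, hcN, hcS, hcy⟩ := D.exists_stab hy hy1
    have hcK : c ∉ K := fun h => hcS (hC c h y hy hy1 hcy)
    by_cases hnK : n ∈ K
    · exact ⟨n, ⟨hnK, hn⟩, rfl⟩
    · refine ⟨n * c, ⟨?_, mul_mem hn hcN⟩, ?_⟩
      · have hi : ((K ⊓ N).subgroupOf N).index = 2 := hrel
        have := (Subgroup.mul_mem_iff_of_index_two hi (a := ⟨n, hn⟩) (b := ⟨c, hcN⟩)).2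
          (iff_of_false (fun h => hnK (mem_subgroupOf.1 h).1) (fun h => hcK (mem_subgroupOf.1 h).1))
        exact (mem_subgroupOf.1 this).1
      · calc n * c * y * (n * c)⁻¹ = n * (c * y * c⁻¹) * n⁻¹ := by group
          _ = n * y * n⁻¹ := by rw [hcy, mul_inv_cancel_right]
  have hclass : ∀ (g : G) (x : K), orderOf x = 3 →
      IsConj x ⟨g * x * g⁻¹, hKn.conj_mem x x.2 g⟩ := by
    intro g x hx
    obtain ⟨Q, hQ⟩ := (IsPGroup.of_card (n := 1) (G := zpowers x)
      (by rw [Nat.card_zpowers, hx, pow_one])).exists_le_sylow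
    obtain ⟨c, hc⟩ := MulAction.exists_smul_eq K P' Q
    have hxQ : x ∈ ((c • P' : Sylow 3 K) : Subgroup K) := hc ▸ hQ (mem_zpowers _)
    rw [Sylow.coe_subgroup_smul, Subgroup.mem_pointwise_smul_iff_inv_smul_mem, hP', mem_subgroupOf] at hxQ
    set y : G := (c : G)⁻¹ * (x : G) * c with hy
    have hyS : y ∈ S := by simpa [hy, MulAut.smul_def] using hxQ
    have hxy : (x : G) = c * y * (c : G)⁻¹ := by rw [hy]; group
    have hy1 : y ≠ 1 := fun h => by
      rw [h] at hxy
      have : x = 1 := Subtype.ext (by simpa using hxy)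
      rw [this, orderOf_one] at hx
      omega
    have htopNK : g * c ∈ K ⊔ N := by
      have := (P.subtype hPK).normalizer_sup_eq_top
      rw [Sylow.coe_subtype, subgroupOf_map_subtype, inf_eq_left.2 hPK, ← D.normal, sup_comm] at this
      rw [this]; exact mem_top _
    obtain ⟨k₀, hk₀, n, hn, hkn⟩ := mem_sup_of_normal_left.1 htopNK
    obtain ⟨m, hm, he⟩ := horbit n hn y hyS hy1
    refine isConj_iff.2 ⟨⟨k₀ * m * (c : G)⁻¹, mul_mem (mul_mem hk₀ hm.1) (inv_mem c.2)⟩,
      Subtype.ext ?_⟩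
    show k₀ * m * (c : G)⁻¹ * (x : G) * (k₀ * m * (c : G)⁻¹)⁻¹ = g * (x : G) * g⁻¹
    calc k₀ * m * (c : G)⁻¹ * (x : G) * (k₀ * m * (c : G)⁻¹)⁻¹ = k₀ * (m * y * m⁻¹) * k₀⁻¹ := by
          rw [hxy]; group
      _ = k₀ * n * y * (k₀ * n)⁻¹ := by rw [he]; group
      _ = g * (x : G) * g⁻¹ := by rw [hkn, hxy]; group
  -- the homomorphism to the symmetric group
  let Ψ : G →* MulAut (alternatingGroup (Fin 6)) :=
    (MulAut.congr e).toMonoidHom.comp (MulAut.conjNormal : G →* MulAut K)
  have hΨ : ∀ g a, Ψ g a = e (MulAut.conjNormal g (e.symm a)) := fun g a => rfl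
  have h6 : 4 ≤ Fintype.card (Fin 6) := by simp
  have hσ : ∀ g : G, ∃ σ : Equiv.Perm (Fin 6),
      (MulAut.conjNormal σ : MulAut (alternatingGroup (Fin 6))) = Ψ g := by
    intro g
    refine AltAut.exists_conjNormal_eq h6 (Ψ g) fun w hw => ?_
    have ho : orderOf (e.symm w) = 3 := by
      rw [MulEquiv.orderOf_eq, ← Subgroup.orderOf_coe]
      exact hw.orderOf
    obtain ⟨c, hc⟩ := isConj_iff.1 (hclass g (e.symm w) ho)
    have hcw : e c * w * (e c)⁻¹ = Ψ g w := by
      rw [hΨ, ← show c * e.symm w * c⁻¹ = MulAut.conjNormal g (e.symm w) from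
        hc.trans (Subtype.ext (MulAut.conjNormal_apply g _).symm), map_mul, map_mul, map_inv,
        e.apply_symm_apply]
    rw [← hcw]
    show ((e c : Equiv.Perm (Fin 6)) * w * (e c : Equiv.Perm (Fin 6))⁻¹).IsThreeCycle
    rw [Equiv.Perm.IsThreeCycle, Equiv.Perm.cycleType_conj]
    exact hw
  choose σ hσ using hσ
  have hinj6 := AltAut.conjNormal_injective (α := Fin 6) h6
  let ρ : G →* Equiv.Perm (Fin 6) :=
    { toFun := σ
      map_one' := hinj6 (by rw [hσ, map_one, map_one])
      map_mul' := fun g h => hinj6 (by rw [hσ, map_mul, map_mul, hσ, hσ]) }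
  have hρ : Function.Injective ρ := by
    rw [injective_iff_map_eq_one]
    intro g hg
    have h1 : Ψ g = 1 := by rw [← hσ g, show σ g = 1 from hg, map_one]
    have hfix : ∀ k : K, g * k * g⁻¹ = (k : G) := by
      intro k
      have h2 := congrArg e.symm (DFunLike.congr_fun h1 (e k))
      rw [hΨ, MulEquiv.symm_apply_apply, MulEquiv.symm_apply_apply] at h2
      have h3 := congrArg Subtype.val h2
      rwa [MulAut.conjNormal_apply, show ((e.symm ((1 : MulAut (alternatingGroup (Fin 6))) (e k)) : K) : G)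
        = k by simp] at h3
    have hgS : g ∈ S := by
      rw [← D.self, mem_centralizer_iff]
      intro s hs
      exact (mul_inv_eq_iff_eq_mul.1 (hfix ⟨s, hPK hs⟩)).symm
    by_contra hg1
    refine hncomm ⟨⟨fun u v => Subtype.ext ?_⟩⟩
    have hKS : ∀ k : K, (k : G) ∈ S := fun k =>
      hC k k.2 g hgS hg1 (mul_inv_eq_iff_eq_mul.1 (hfix k)).symm
    exact D.commute (hKS u) (hKS v)
  refine ⟨MulEquiv.ofBijective ρ ((Nat.bijective_iff_injective_and_card ρ).2 ⟨hρ, ?_⟩)⟩
  rw [hG720, Nat.card_perm, Nat.card_fin]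
  rfl

end Cfsg.Agent.Lib.SixPointRecognition
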