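import Mathlib
import Cfsg.Agent.Lib.Coprime.Generation

/-!
# A self-centralising subgroup of order nine with dihedral automiser of order eight
-/

set_option autoImplicit false

namespace Cfsg.Agent.Lib.SixPointRecognition

open Subgroup
open scoped commutatorElement

variable {G : Type*} [Group G]

theorem dih_six : ¬ ∀ d : DihedralGroup 4, d ^ 6 = 1 := fun h => absurd (h (DihedralGroup.r 1)) (by decide)

theorem dih_sq_central : ∀ a b : DihedralGroup 4, a * a * b = b * (a * a) := by decide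

theorem dih_invol : (DihedralGroup.sr 0 : DihedralGroup 4) * DihedralGroup.sr 0 = 1 ∧
    (DihedralGroup.sr 1 : DihedralGroup 4) * DihedralGroup.sr 1 = 1 ∧
    (DihedralGroup.sr 0 : DihedralGroup 4) ≠ 1 ∧ (DihedralGroup.sr 1 : DihedralGroup 4) ≠ 1 ∧
    (DihedralGroup.sr 0 : DihedralGroup 4) ≠ DihedralGroup.sr 1 := by decide

/-- The hypotheses: `S` of order nine is self-centralising, normal in `N` with dihedral quotient
given by `π`, and holds the centralisers of its nontrivial elements inside `N`. -/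
structure Setting (S N : Subgroup G) where
  card_S : Nat.card S = 9
  normal : N = normalizer (S : Set G)
  self : centralizer (S : Set G) = S
  cent : ∀ x ∈ S, x ≠ 1 → centralizer ({x} : Set G) ≤ N
  π : N →* DihedralGroup 4
  π_surj : Function.Surjective π
  π_eq_one : ∀ n : N, π n = 1 ↔ (n : G) ∈ S

namespace Setting

variable {S N : Subgroup G} (D : Setting S N)
include D

theorem S_le : S ≤ N := D.normal ▸ le_normalizer

theorem commute {a b : G} (ha : a ∈ S) (hb : b ∈ S) : a * b = b * a := by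
  have h : b ∈ centralizer (S : Set G) := by rw [D.self]; exact hb
  exact mem_centralizer_iff.1 h a ha

theorem conj_mem {n x : G} (hn : n ∈ N) (hx : x ∈ S) : n * x * n⁻¹ ∈ S := by
  rw [D.normal] at hn
  exact (mem_normalizer_iff.1 hn x).1 hx

variable [Finite G]

theorem card_N : Nat.card N = 72 := by
  have h := Subgroup.card_mul_index D.π.ker
  rw [Subgroup.index_ker, MonoidHom.range_eq_top.2 D.π_surj, Subgroup.card_top, DihedralGroup.nat_card] at h
  have hk : D.π.ker = S.subgroupOf N := by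
    ext n
    rw [MonoidHom.mem_ker, D.π_eq_one, mem_subgroupOf]
  rw [hk, Nat.card_congr (subgroupOfEquivOfLe D.S_le).toEquiv, D.card_S] at h
  omega

/-- `N` leaves no subgroup of order three of `S` invariant. -/
theorem false_of_invariant {F : Subgroup G} (hFS : F ≤ S) (hF : Nat.card F = 3)
    (hFN : ∀ n ∈ N, ∀ x ∈ F, n * x * n⁻¹ ∈ F) : False := by
  refine dih_six fun d => ?_
  obtain ⟨⟨n, hn⟩, rfl⟩ := D.π_surj d
  rw [← map_pow, D.π_eq_one]
  show n ^ 6 ∈ S
  rw [← D.self, mem_centralizer_iff]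
  intro s hs
  have hpow : ∀ x ∈ F, x ^ 3 = 1 := fun x hx => by
    have := pow_card_eq_one' (G := F) (x := ⟨x, hx⟩)
    rw [hF] at this
    exact congrArg Subtype.val this
  have hsq : ∀ x ∈ F, n * n * x * (n * n)⁻¹ = x := by
    intro x hx
    by_cases hx1 : x = 1
    · simp [hx1]
    have hz : zpowers x = F := eq_of_le_of_card_ge (zpowers_le.2 hx) (by
      rw [Nat.card_zpowers, orderOf_eq_prime (p := 3) (hpow x hx) hx1, hF])
    have h1 : n * x * n⁻¹ ∈ zpowers x := hz ▸ hFN n hn x hx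
    obtain ⟨i, hi⟩ := mem_zpowers_iff.1 h1
    have h2 : n * n * x * (n * n)⁻¹ = x ^ (i * i) := by
      rw [zpow_mul, hi, conj_zpow, hi]
      group
    have hi3 : ¬ (3 : ℤ) ∣ i := fun ⟨c, hc⟩ => hx1 (by
      rw [hc, zpow_mul, show x ^ (3 : ℤ) = 1 by exact_mod_cast hpow x hx, one_zpow, eq_comm,
        conj_eq_one_iff] at hi
      exact hi)
    obtain ⟨c, hc⟩ : (3 : ℤ) ∣ i * i - 1 := by
      have := Int.emod_emod_of_dvd
      rcases (by omega : i % 3 = 1 ∨ i % 3 = 2) with h | h <;>
        · rw [Int.dvd_iff_emod_eq_zero, Int.sub_emod, Int.mul_emod, h]; norm_num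
    rw [h2, show i * i = 3 * c + 1 by omega, zpow_add, zpow_mul,
      show x ^ (3 : ℤ) = 1 by exact_mod_cast hpow x hx, one_zpow, one_mul, zpow_one]
  -- the action on the quotient by `F`
  have hrel : F.relIndex S = 3 := by
    have h := Subgroup.relIndex_mul_relIndex ⊥ F S bot_le hFS
    rw [relIndex_bot_left, relIndex_bot_left, hF, D.card_S] at h
    omega
  haveI hFn : (F.subgroupOf S).Normal := ⟨fun a ha b => mem_subgroupOf.2 (by
    show (b : G) * (a : G) * (b : G)⁻¹ ∈ F
    rw [D.commute b.2 a.2, mul_inv_cancel_right]; exact mem_subgroupOf.1 ha)⟩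
  let Q := ↥S ⧸ F.subgroupOf S
  have hQ : Nat.card Q = 3 := hrel
  have hdesc : n * n * s * (n * n)⁻¹ * s⁻¹ ∈ F := by
    let act : ↥S →* Q := (QuotientGroup.mk' _).comp
      { toFun := fun a => (⟨n * (a : G) * n⁻¹, D.conj_mem hn a.2⟩ : S)
        map_one' := Subtype.ext (by simp)
        map_mul' := fun a b => Subtype.ext (by simp [mul_assoc]) }
    let q : Q →* Q := QuotientGroup.lift (F.subgroupOf S) act fun a ha =>
      (QuotientGroup.eq_one_iff _).2 (mem_subgroupOf.2 (hFN n hn _ (mem_subgroupOf.1 ha)))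
    haveI : Fact (Nat.Prime 3) := ⟨Nat.prime_three⟩
    have key : ∀ v : Q, q (q v) = v := by
      intro v
      by_cases hv : v = 1
      · simp [hv]
      obtain ⟨i, hi⟩ := mem_zpowers_iff.1 (mem_zpowers_of_prime_card hQ (g := v) hv : q v ∈ zpowers v)
      have hqv : q v ≠ 1 := by
        intro e
        obtain ⟨a, rfl⟩ := QuotientGroup.mk_surjective v
        refine hv ((QuotientGroup.eq_one_iff _).2 (mem_subgroupOf.2 ?_))
        have h1 := mem_subgroupOf.1 ((QuotientGroup.eq_one_iff _).1 e)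
        have h2 := hFN n⁻¹ (inv_mem hn) _ h1
        simpa [mul_assoc] using h2
      have hv3 : v ^ (3 : ℤ) = 1 := by
        have := pow_card_eq_one' (G := Q) (x := v)
        rw [hQ] at this
        exact_mod_cast this
      have hi3 : ¬ (3 : ℤ) ∣ i := fun ⟨c, hc⟩ => hqv (by rw [← hi, hc, zpow_mul, hv3, one_zpow])
      obtain ⟨c, hc⟩ : (3 : ℤ) ∣ i * i - 1 := by
        rcases (by omega : i % 3 = 1 ∨ i % 3 = 2) with h | h <;>
          · rw [Int.dvd_iff_emod_eq_zero, Int.sub_emod, Int.mul_emod, h]; norm_num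
      rw [← hi, map_zpow, ← hi, ← zpow_mul, show i * i = 3 * c + 1 by omega, zpow_add, zpow_mul,
        hv3, one_zpow, one_mul, zpow_one]
    have := key (QuotientGroup.mk ⟨s, hs⟩)
    have h1 := mem_subgroupOf.1 (QuotientGroup.eq.1 this.symm)
    have h2 : s⁻¹ * (n * (n * s * n⁻¹) * n⁻¹) ∈ F := h1
    have h3 : s * (s⁻¹ * (n * (n * s * n⁻¹) * n⁻¹)) * s⁻¹ ∈ F := by
      rw [D.commute hs (hFS h2), mul_inv_cancel_right]; exact h2
    convert h3 using 1
    group
  set f := n * n * s * (n * n)⁻¹ * s⁻¹ with hf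
  have hfix : n * n * f * (n * n)⁻¹ = f := hsq f hdesc
  have e1 : n * n * s * (n * n)⁻¹ = f * s := by rw [hf]; group
  have e3 : n ^ 6 * s * (n ^ 6)⁻¹ = f * f * f * s := by
    rw [show n ^ 6 = n * n * (n * n) * (n * n) by
      simp only [pow_succ, pow_zero, one_mul, mul_assoc]]
    clear_value f
    generalize n * n = m at hfix e1 ⊢
    calc m * m * m * s * (m * m * m)⁻¹
        = m * (m * (m * s * m⁻¹) * m⁻¹) * m⁻¹ := by group
      _ = m * (m * (f * s) * m⁻¹) * m⁻¹ := by rw [e1]
      _ = m * ((m * f * m⁻¹) * (m * s * m⁻¹)) * m⁻¹ := by group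
      _ = m * (f * (f * s)) * m⁻¹ := by rw [hfix, e1]
      _ = (m * f * m⁻¹) * ((m * f * m⁻¹) * (m * s * m⁻¹)) := by group
      _ = f * f * f * s := by rw [hfix, e1]; group
  rw [show f * f * f = 1 by rw [← hpow f hdesc, pow_three]; group, one_mul] at e3
  exact (mul_inv_eq_iff_eq_mul.1 e3).symm

theorem exp_three {x : G} (hx : x ∈ S) : x ^ 3 = 1 := by
  classical
  by_contra h
  have h9 : x ^ 9 = 1 := by
    have := pow_card_eq_one' (G := S) (x := ⟨x, hx⟩)
    rw [D.card_S] at this
    exact congrArg Subtype.val this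
  haveI : Fact (Nat.Prime 3) := ⟨Nat.prime_three⟩
  have ho : orderOf x = 3 ^ (1 + 1) := orderOf_eq_prime_pow (by simpa using h) (by simpa using h9)
  have hz : zpowers x = S := eq_of_le_of_card_ge (zpowers_le.2 hx) (by
    rw [Nat.card_zpowers, ho, D.card_S]; norm_num)
  refine D.false_of_invariant (F := zpowers (x ^ 3)) (zpowers_le.2 (pow_mem hx 3)) ?_ ?_
  · rw [Nat.card_zpowers, orderOf_pow, ho]; rfl
  · intro n hn y hy
    obtain ⟨i, rfl⟩ := mem_zpowers_iff.1 hy
    have h1 : n * x * n⁻¹ ∈ zpowers x := hz ▸ D.conj_mem hn hx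
    obtain ⟨j, hj⟩ := mem_zpowers_iff.1 h1
    refine mem_zpowers_iff.2 ⟨j * i, ?_⟩
    rw [← conj_zpow, ← conj_pow, ← hj, ← zpow_natCast (x ^ j) 3, ← zpow_natCast x 3, ← zpow_mul,
      ← zpow_mul, ← zpow_mul]
    ring_nf

/-- An element of `N` central modulo `S` and outside `S` fixes no nontrivial element of `S`. -/
theorem fpf {t : G} (ht : t ∈ N) (htS : t ∉ S) (hcen : ∀ n ∈ N, t⁻¹ * (n * t * n⁻¹) ∈ S)
    {x : G} (hx : x ∈ S) (htx : t * x = x * t) : x = 1 := by
  by_contra hx1
  set F := S ⊓ centralizer ({t} : Set G) with hF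
  have hxF : x ∈ F := ⟨hx, mem_centralizer_singleton_iff.2 htx.symm⟩
  have hinv : ∀ n ∈ N, ∀ y ∈ F, n * y * n⁻¹ ∈ F := by
    intro n hn y hy
    refine ⟨D.conj_mem hn hy.1, mem_centralizer_singleton_iff.2 ?_⟩
    obtain ⟨s, hs, he⟩ : ∃ s ∈ S, n * t * n⁻¹ = t * s := ⟨_, hcen n hn, by group⟩
    have hy' := mem_centralizer_singleton_iff.1 hy.2
    have h1 : n * y * n⁻¹ * (t * s) = t * s * (n * y * n⁻¹) := by
      rw [← he]
      calc n * y * n⁻¹ * (n * t * n⁻¹) = n * (y * t) * n⁻¹ := by group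
        _ = n * (t * y) * n⁻¹ := by rw [hy']
        _ = _ := by group
    rw [mul_assoc t s, D.commute hs (D.conj_mem hn hy.1), ← mul_assoc, ← mul_assoc] at h1
    exact mul_right_cancel h1
  have hdvd : Nat.card F ∣ 3 ^ 2 := (card_dvd_of_le inf_le_left).trans (dvd_of_eq D.card_S)
  obtain ⟨k, hk, hc⟩ := (Nat.dvd_prime_pow Nat.prime_three).1 hdvd
  interval_cases k
  · rw [pow_zero, Subgroup.card_eq_one] at hc
    rw [hc] at hxF
    exact hx1 (mem_bot.1 hxF)
  · exact D.false_of_invariant inf_le_left (hc.trans (pow_one 3)) hinv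
  · have he : F = S := eq_of_le_of_card_ge inf_le_left (by rw [hc, D.card_S]; rfl)
    refine htS ?_
    rw [← D.self, mem_centralizer_iff]
    intro y hy
    rw [← he] at hy
    exact (mem_centralizer_singleton_iff.1 hy.2)

/-- Some element outside `S` centralizes any given nontrivial element. -/
theorem exists_stab {y : G} (hy : y ∈ S) (hy1 : y ≠ 1) : ∃ c ∈ N, c ∉ S ∧ c * y = y * c := by
  classical
  by_contra hcon
  push Not at hcon
  have hall : ∀ c ∈ N, c * y = y * c → c ∈ S := fun c hc h => by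
    by_contra hcS; exact hcon c hc hcS h
  -- conjugation gives a bijection from the quotient onto the nontrivial elements
  let sec : DihedralGroup 4 → N := Function.surjInv D.π_surj
  let f : DihedralGroup 4 → {z : S // z ≠ 1} := fun d =>
    ⟨⟨(sec d : G) * y * (sec d : G)⁻¹,
      D.conj_mem (sec d).2 hy⟩, fun e => hy1 (conj_eq_one_iff.1 (congrArg Subtype.val e))⟩
  have hf : Function.Injective f := by
    intro d d' e
    have e' := congrArg (fun z : {z : S // z ≠ 1} => ((z : S) : G)) e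
    simp only [f, sec] at e'
    set a := Function.surjInv D.π_surj d
    set b := Function.surjInv D.π_surj d'
    have h1 : ((b⁻¹ * a : N) : G) ∈ S := hall _ (b⁻¹ * a).2 (by
      show (b : G)⁻¹ * a * y = y * ((b : G)⁻¹ * a)
      calc (b : G)⁻¹ * a * y = (b : G)⁻¹ * ((a : G) * y * (a : G)⁻¹) * a := by group
        _ = (b : G)⁻¹ * ((b : G) * y * (b : G)⁻¹) * a := by rw [e']
        _ = _ := by group)
    rw [← D.π_eq_one, map_mul, map_inv, Function.surjInv_eq D.π_surj, Function.surjInv_eq D.π_surj,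
      inv_mul_eq_one] at h1
    exact h1.symm
  have hbij : Function.Bijective f := by
    refine (Nat.bijective_iff_injective_and_card f).2 ⟨hf, ?_⟩
    rw [DihedralGroup.nat_card]
    haveI := Fintype.ofFinite S
    rw [Nat.card_eq_fintype_card, Fintype.card_subtype_compl, ← Nat.card_eq_fintype_card, D.card_S,
      Fintype.card_subtype_eq]
  have hfree : ∀ t ∈ N, t ∉ S → ∀ z ∈ S, t * z = z * t → z = 1 := by
    intro t ht htS z hz htz
    by_contra hz1
    obtain ⟨d, hd⟩ := hbij.2 ⟨⟨z, hz⟩, fun e => hz1 (congrArg Subtype.val e)⟩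
    set n := Function.surjInv D.π_surj d
    have hz' : (n : G) * y * (n : G)⁻¹ = z := congrArg (fun w : {z : S // z ≠ 1} => ((w : S) : G)) hd
    refine htS ?_
    have h1 := hall ((n : G)⁻¹ * t * n) (mul_mem (mul_mem (inv_mem n.2) ht) n.2) (by
      rw [← hz'] at htz
      calc (n : G)⁻¹ * t * n * y = (n : G)⁻¹ * (t * ((n : G) * y * (n : G)⁻¹)) * n := by group
        _ = (n : G)⁻¹ * ((n : G) * y * (n : G)⁻¹ * t) * n := by rw [htz]
        _ = _ := by group)
    have := D.conj_mem n.2 h1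
    simpa [mul_assoc] using this
  have hinv : ∀ t : N, D.π t * D.π t = 1 → D.π t ≠ 1 → ∀ z ∈ S, (t : G) * z * (t : G)⁻¹ = z⁻¹ := by
    intro t ht ht1 z hz
    have ht2 : (t : G) * t ∈ S := by
      have := (D.π_eq_one (t * t)).1 (by rw [map_mul, ht])
      exact this
    set w := z * ((t : G) * z * (t : G)⁻¹)
    have hw : w ∈ S := mul_mem hz (D.conj_mem t.2 hz)
    have : w = 1 := hfree t t.2 (fun h => ht1 ((D.π_eq_one t).2 h)) w hw (by
      have hc : (t : G) * t * z = z * ((t : G) * t) := D.commute ht2 hz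
      calc (t : G) * w = (t : G) * z * (t : G)⁻¹ * ((t : G) * t * z) * (t : G)⁻¹ := by
            simp only [w]; group
        _ = (t : G) * z * (t : G)⁻¹ * z * (t : G) := by rw [hc]; group
        _ = w * t := by rw [D.commute (D.conj_mem t.2 hz) hz])
    exact eq_inv_of_mul_eq_one_right this
  obtain ⟨h0, h1, h0', h1', hne⟩ := dih_invol
  obtain ⟨a, ha⟩ := D.π_surj (DihedralGroup.sr 0)
  obtain ⟨b, hb⟩ := D.π_surj (DihedralGroup.sr 1)
  apply hne
  have h : ((b⁻¹ * a : N) : G) ∈ S := by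
    rw [← D.self, mem_centralizer_iff]
    intro z hz
    show z * ((b : G)⁻¹ * a) = (b : G)⁻¹ * a * z
    have e1 := hinv a (by rw [ha, h0]) (by rw [ha]; exact h0') z hz
    have e2 := hinv b (by rw [hb, h1]) (by rw [hb]; exact h1') z hz
    calc z * ((b : G)⁻¹ * a) = (b : G)⁻¹ * ((b : G) * z * (b : G)⁻¹) * a := by group
      _ = (b : G)⁻¹ * ((a : G) * z * (a : G)⁻¹) * a := by rw [e1, e2]
      _ = _ := by group
  rw [← D.π_eq_one, map_mul, map_inv, ha, hb, inv_mul_eq_one] at h
  exact h.symm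

end Setting

end Cfsg.Agent.Lib.SixPointRecognition
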