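import Cfsg.Agent.Lib.SixPointRecognition.Local
import Cfsg.Agent.Lib.AltAut.ThreeCycle
import Cfsg.Agent.Lib.SmallGroups.Order360
import Cfsg.Agent.S3341
import Cfsg.Agent.S3805

/-!
# Groups with a Sylow 3-subgroup of order nine controlled like in the symmetric group of degree six

If such a group is not simple then the Sylow 3-subgroup is normal or the group is `S₆`.
-/

set_option autoImplicit false
set_option linter.style.haveILetI false

namespace Cfsg.Agent.Lib.SixPointRecognition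

open Subgroup
open scoped commutatorElement

universe u

variable {G : Type u} [Group G] [Finite G] {P : Sylow 3 G} {N : Subgroup G}

/-- `P` normalises no nontrivial subgroup of order prime to three. -/
theorem eq_bot_of_normalized (D : Setting (P : Subgroup G) N) (M : Subgroup G)
    (hPM : ∀ s ∈ (P : Subgroup G), ∀ m ∈ M, s * m * s⁻¹ ∈ M) (h3 : ¬ 3 ∣ Nat.card M) : M = ⊥ := by
  haveI : Fact (Nat.Prime 3) := ⟨Nat.prime_three⟩
  set S := (P : Subgroup G)
  have hbot : S ⊓ M = ⊥ := by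
    refine inf_eq_bot_of_coprime ?_
    rw [D.card_S, show (9 : ℕ) = 3 ^ 2 by norm_num]
    exact Nat.Coprime.pow_left 2 (Nat.prime_three.coprime_iff_not_dvd.2 h3)
  haveI : IsMulCommutative S := ⟨⟨fun a b => Subtype.ext (D.commute a.2 b.2)⟩⟩
  have hncyc : ¬ IsCyclic S := by
    intro hcy
    obtain ⟨a, ha⟩ := hcy.exists_generator
    have h3 : orderOf a ∣ 3 := orderOf_dvd_of_pow_eq_one (Subtype.ext (D.exp_three a.2))
    rw [orderOf_eq_card_of_forall_mem_zpowers ha, D.card_S] at h3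
    exact absurd (Nat.le_of_dvd (by norm_num) h3) (by norm_num)
  have hcop : (Nat.card S).Coprime (Nat.card M) := by
    rw [D.card_S, show (9 : ℕ) = 3 ^ 2 by norm_num]
    exact Nat.Coprime.pow_left 2 (Nat.prime_three.coprime_iff_not_dvd.2 h3)
  refine le_bot_iff.1 (Coprime.le_of_noncyclic hncyc (fun s hs => mem_normalizer_iff.2 fun z =>
    ⟨hPM s hs z, fun h => by simpa [mul_assoc] using hPM s⁻¹ (inv_mem hs) _ h⟩) hcop
    fun x hx hx1 => ?_)
  rintro k ⟨hk, hkx⟩
  have hkN : k ∈ N := D.cent x hx hx1 hkx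
  have hcomm : k ∈ centralizer (S : Set G) := by
    refine mem_centralizer_iff.2 fun s hs => ?_
    have h1 : k * s * k⁻¹ * s⁻¹ ∈ S ⊓ M := ⟨mul_mem (D.conj_mem hkN hs) (S.inv_mem hs), by
      rw [mul_assoc, mul_assoc]
      refine mul_mem hk ?_
      rw [← mul_assoc]
      exact hPM s hs _ (inv_mem hk)⟩
    rw [hbot, mem_bot, mul_inv_eq_one, mul_inv_eq_iff_eq_mul] at h1
    exact h1.symm
  rw [D.self] at hcomm
  have : k ∈ S ⊓ M := ⟨hcomm, hk⟩
  rwa [hbot] at this

/-- A nontrivial normal subgroup contains `P`, unless `P` is normal. -/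
theorem le_of_normal (D : Setting (P : Subgroup G) N) (L : Subgroup G) [L.Normal] (hL : L ≠ ⊥) :
    (P : Subgroup G) ≤ L := by
  haveI : Fact (Nat.Prime 3) := ⟨Nat.prime_three⟩
  set S := (P : Subgroup G)
  have hinv : ∀ n ∈ N, ∀ x ∈ S ⊓ L, n * x * n⁻¹ ∈ S ⊓ L := fun n hn x hx =>
    ⟨D.conj_mem hn hx.1, (inferInstance : L.Normal).conj_mem x hx.2 n⟩
  have hdvd : Nat.card ↥(S ⊓ L) ∣ 3 ^ 2 := (card_dvd_of_le inf_le_left).trans (dvd_of_eq D.card_S)
  obtain ⟨k, hk, hc⟩ := (Nat.dvd_prime_pow Nat.prime_three).1 hdvd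
  interval_cases k
  · exfalso
    refine hL (eq_bot_of_normalized D L (fun g _ m hm => (inferInstance : L.Normal).conj_mem m hm g)
      fun h => ?_)
    rw [pow_zero, Subgroup.card_eq_one] at hc
    obtain ⟨x, hx⟩ := exists_prime_orderOf_dvd_card' 3 h
    obtain ⟨Q, hQ⟩ := (IsPGroup.of_card (n := 1) (G := zpowers (x : G))
      (by rw [Nat.card_zpowers, orderOf_coe, hx, pow_one])).exists_le_sylow
    obtain ⟨g, hg⟩ := MulAction.exists_smul_eq G P Q
    have hxQ : (x : G) ∈ ((g • P : Sylow 3 G) : Subgroup G) := hg ▸ hQ (mem_zpowers _)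
    rw [Sylow.coe_subgroup_smul, Subgroup.mem_pointwise_smul_iff_inv_smul_mem] at hxQ
    have h1 : g⁻¹ * (x : G) * g ∈ S ⊓ L := ⟨by simpa [MulAut.smul_def] using hxQ, by
      have := (inferInstance : L.Normal).conj_mem x x.2 g⁻¹
      simpa using this⟩
    rw [hc, mem_bot] at h1
    have h2 : (x : G) = 1 := by
      calc (x : G) = g * (g⁻¹ * (x : G) * g) * g⁻¹ := by group
        _ = 1 := by rw [h1]; group
    rw [OneMemClass.coe_eq_one.1 h2, orderOf_one] at hx
    omega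
  · exact (D.false_of_invariant inf_le_left (hc.trans (pow_one 3)) hinv).elim
  · exact inf_eq_left.1 (eq_of_le_of_card_ge (inf_le_left : S ⊓ L ≤ S) (by rw [hc, D.card_S]; rfl))

theorem normal_of_normal_in (L : Subgroup G) [L.Normal] (hPL : (P : Subgroup G) ≤ L)
    (hn : ((P : Subgroup G).subgroupOf L).Normal) : (P : Subgroup G).Normal := by
  haveI : Fact (Nat.Prime 3) := ⟨Nat.prime_three⟩
  haveI : (P.subtype hPL : Subgroup L).Normal := by rw [Sylow.coe_subtype]; exact hn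
  haveI := (P.subtype hPL).characteristic_of_normal inferInstance
  have h := ConjAct.normal_of_characteristic_of_normal (H := L) (K := (P.subtype hPL : Subgroup L))
  rwa [Sylow.coe_subtype, subgroupOf_map_subtype, inf_eq_left.2 hPL] at h

/-- A minimal normal subgroup is simple. -/
theorem isSimpleGroup_of_minimal (D : Setting (P : Subgroup G) N) (hP : ¬ (P : Subgroup G).Normal)
    (L : Subgroup G) [L.Normal] (hL : L ≠ ⊥)
    (hmin : ∀ X : Subgroup G, X.Normal → X ≤ L → X ≠ ⊥ → X = L) : IsSimpleGroup L := by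
  classical
  haveI : Fact (Nat.Prime 3) := ⟨Nat.prime_three⟩
  set S := (P : Subgroup G)
  have hSL : S ≤ L := le_of_normal D L hL
  haveI : Nontrivial L := (nontrivial_iff_ne_bot L).2 hL
  refine ⟨fun X hX => ?_⟩
  by_contra hcon
  push Not at hcon
  obtain ⟨hXb, hXt⟩ := hcon
  obtain ⟨M₀, ⟨hM₀n, hM₀b, hM₀t⟩, hM₀min⟩ := Set.exists_min_image
    {Y : Subgroup L | Y.Normal ∧ Y ≠ ⊥ ∧ Y ≠ ⊤} (fun Y => Nat.card Y) (Set.toFinite _) ⟨X, hX, hXb, hXt⟩
  set M := M₀.map L.subtype with hM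
  have hML : M ≤ L := map_subtype_le _
  have hMb : M ≠ ⊥ := fun h => hM₀b ((map_eq_bot_iff_of_injective _ L.subtype_injective).1 h)
  have hMLn : ∀ l ∈ L, ∀ m ∈ M, l * m * l⁻¹ ∈ M := by
    rintro l hl _ ⟨m, hm, rfl⟩
    exact ⟨⟨l, hl⟩ * m * ⟨l, hl⟩⁻¹, hM₀n.conj_mem m hm _, rfl⟩
  obtain ⟨g, hg⟩ : ∃ g : G, ¬ ∀ m ∈ M, g * m * g⁻¹ ∈ M := by
    by_contra h
    push Not at h
    have := hmin M ⟨fun m hm g => h g m hm⟩ hML hMb
    refine hM₀t (map_injective L.subtype_injective ?_)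
    rw [← hM, this, ← MonoidHom.range_eq_map, Subgroup.range_subtype]
  set M' := M.map (MulAut.conj g).toMonoidHom with hM'
  have hM'L : M' ≤ L := by
    rintro _ ⟨m, hm, rfl⟩
    exact (inferInstance : L.Normal).conj_mem m (hML hm) g
  have hM'Ln : ∀ l ∈ L, ∀ m ∈ M', l * m * l⁻¹ ∈ M' := by
    rintro l hl _ ⟨m, hm, rfl⟩
    refine ⟨g⁻¹ * l * g * m * (g⁻¹ * l * g)⁻¹, hMLn _ ?_ m hm, ?_⟩
    · simpa using (inferInstance : L.Normal).conj_mem l hl g⁻¹
    · show g * (g⁻¹ * l * g * m * (g⁻¹ * l * g)⁻¹) * g⁻¹ = l * (g * m * g⁻¹) * l⁻¹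
      group
  have hcardM' : Nat.card M' = Nat.card M := card_map_of_injective (MulAut.conj g).injective
  have hinf : M ⊓ M' = ⊥ := by
    by_contra hne
    set Y := (M ⊓ M').subgroupOf L
    have hYn : Y.Normal := ⟨fun y hy l => mem_subgroupOf.2
      ⟨hMLn l l.2 _ (mem_subgroupOf.1 hy).1, hM'Ln l l.2 _ (mem_subgroupOf.1 hy).2⟩⟩
    have hcY : Nat.card Y = Nat.card ↥(M ⊓ M') :=
      Nat.card_congr (subgroupOfEquivOfLe (inf_le_left.trans hML)).toEquiv
    have hYb : Y ≠ ⊥ := fun h => hne (by rwa [← card_eq_one, ← hcY, card_eq_one])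
    have hM₀c : Nat.card M = Nat.card M₀ := card_map_of_injective L.subtype_injective
    have hle : Nat.card ↥(M ⊓ M') ≤ Nat.card M := card_le_of_le inf_le_left
    have hYt : Y ≠ ⊤ := by
      intro h
      refine hM₀t ((card_eq_iff_eq_top M₀).1 (le_antisymm (card_le_card_group _) ?_))
      calc Nat.card L = Nat.card Y := by rw [h, card_top]
        _ ≤ Nat.card M₀ := by omega
    have hge := hM₀min Y ⟨hYn, hYb, hYt⟩
    have he : M ⊓ M' = M := eq_of_le_of_card_ge inf_le_left (by omega)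
    have he' : M = M' := eq_of_le_of_card_ge (inf_eq_left.1 he) hcardM'.le
    exact hg fun m hm => he' ▸ ⟨m, hm, rfl⟩
  have hcomm : ∀ a ∈ M, ∀ b ∈ M', a * b = b * a := fun a ha b hb => by
    have h : a * b * a⁻¹ * b⁻¹ ∈ M ⊓ M' := ⟨by
      rw [mul_assoc, mul_assoc]
      refine mul_mem ha ?_
      rw [← mul_assoc]
      exact hMLn b (hM'L hb) _ (inv_mem ha),
      mul_mem (hM'Ln a (hML ha) b hb) (M'.inv_mem hb)⟩
    rw [hinf, mem_bot, mul_inv_eq_one, mul_inv_eq_iff_eq_mul] at h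
    exact h
  -- both factors meet the Sylow subgroup
  have hmeet : ∀ Y : Subgroup G, Y ≤ L → (∀ l ∈ L, ∀ m ∈ Y, l * m * l⁻¹ ∈ Y) → 3 ∣ Nat.card Y →
      ∃ y ∈ S, y ∈ Y ∧ y ≠ 1 := by
    intro Y hYL hYn h3
    obtain ⟨x, hx⟩ := exists_prime_orderOf_dvd_card' 3 h3
    obtain ⟨Q, hQ⟩ := (IsPGroup.of_card (n := 1) (G := zpowers (⟨(x : G), hYL x.2⟩ : L))
      (by rw [Nat.card_zpowers, ← Subgroup.orderOf_coe, Subgroup.coe_mk, orderOf_coe, hx, pow_one])).exists_le_sylow
    obtain ⟨l, hl⟩ := MulAction.exists_smul_eq L (P.subtype hSL) Q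
    have hxQ : (⟨(x : G), hYL x.2⟩ : L) ∈ ((l • P.subtype hSL : Sylow 3 L) : Subgroup L) :=
      hl ▸ hQ (mem_zpowers _)
    rw [Sylow.coe_subgroup_smul, Subgroup.mem_pointwise_smul_iff_inv_smul_mem, Sylow.coe_subtype,
      mem_subgroupOf] at hxQ
    refine ⟨_, hxQ, by simpa [MulAut.smul_def] using hYn _ (inv_mem l.2) x x.2, fun e => ?_⟩
    have h2 : (x : G) = 1 := by
      have e' : (l : G)⁻¹ * x * l = 1 := by simpa [MulAut.smul_def] using e
      calc (x : G) = (l : G) * ((l : G)⁻¹ * x * l) * (l : G)⁻¹ := by group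
        _ = 1 := by rw [e']; group
    rw [OneMemClass.coe_eq_one.1 h2, orderOf_one] at hx
    omega
  have h3M : 3 ∣ Nat.card M := by
    by_contra h3
    exact hMb (eq_bot_of_normalized D M (fun t ht => hMLn t (hSL ht)) h3)
  exact hP (False.elim (by
    obtain ⟨y, hyS, hyM', hy1⟩ := hmeet M' hM'L hM'Ln (hcardM' ▸ h3M)
    have hMN : M ≤ N := fun m hm => D.cent y hyS hy1
      (mem_centralizer_singleton_iff.2 (hcomm m hm y hyM'))
    obtain ⟨x, hxS, hxM, hx1⟩ := hmeet M hML hMLn h3M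
    have hSM : Nat.card ↥(S ⊓ M) = 3 := by
      have hdvd : Nat.card ↥(S ⊓ M) ∣ 3 ^ 2 := (card_dvd_of_le inf_le_left).trans (dvd_of_eq D.card_S)
      obtain ⟨k, hk, hc⟩ := (Nat.dvd_prime_pow Nat.prime_three).1 hdvd
      interval_cases k
      · rw [pow_zero, Subgroup.card_eq_one] at hc
        have hx' : x ∈ S ⊓ M := ⟨hxS, hxM⟩
        rw [hc] at hx'
        exact absurd hx' hx1
      · exact hc
      · have he : S ⊓ M = S := eq_of_le_of_card_ge inf_le_left (by rw [hc, D.card_S]; rfl)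
        have : y ∈ M ⊓ M' := ⟨inf_eq_left.1 he hyS, hyM'⟩
        rw [hinf] at this
        exact absurd this hy1
    -- the part in `S` is normal in `L`, hence equals the whole factor
    set F := S ⊓ M
    haveI hFn : (F.subgroupOf M).Normal := ⟨fun a ha b => mem_subgroupOf.2
      ⟨D.conj_mem (hMN b.2) (mem_subgroupOf.1 ha).1, (b * a * b⁻¹).2⟩⟩
    have hFcard : Nat.card (F.subgroupOf M) = 3 := by
      rw [Nat.card_congr (subgroupOfEquivOfLe inf_le_right).toEquiv, hSM]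
    have hFchar : ∀ l ∈ L, ∀ f ∈ F, l * f * l⁻¹ ∈ F := by
      intro l hl f hf
      have hm : l * f * l⁻¹ ∈ M := hMLn l hl f hf.2
      have hf3 : (l * f * l⁻¹) ^ 3 = 1 := by rw [conj_pow, D.exp_three hf.1]; group
      have hmN : l * f * l⁻¹ ∈ N := hMN hm
      have h1 : IsPGroup 3 (zpowers (l * f * l⁻¹)) := fun z => ⟨1, Subtype.ext (by
        obtain ⟨_, i, rfl⟩ := z
        show ((l * f * l⁻¹) ^ i) ^ (3 ^ 1) = 1
        rw [pow_one, ← zpow_natCast, ← zpow_mul, mul_comm, zpow_mul, zpow_natCast, hf3, one_zpow])⟩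
      have h2 : (D.π ⟨_, hmN⟩) ^ 3 = 1 := by
        rw [← map_pow, D.π_eq_one]
        show (l * f * l⁻¹) ^ 3 ∈ S
        rw [hf3]; exact one_mem _
      have h3 : D.π ⟨_, hmN⟩ = 1 := by
        have : ∀ d : DihedralGroup 4, d ^ 3 = 1 → d = 1 := by decide
        exact this _ h2
      exact ⟨(D.π_eq_one _).1 h3, hm⟩
    have hFM : F = M := by
      set Y := F.subgroupOf L
      have hYn : Y.Normal := ⟨fun a ha b => mem_subgroupOf.2 (hFchar b b.2 _ (mem_subgroupOf.1 ha))⟩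
      have hcY : Nat.card Y = 3 := by
        rw [Nat.card_congr (subgroupOfEquivOfLe (inf_le_right.trans hML)).toEquiv, hSM]
      have hYb : Y ≠ ⊥ := fun h => by rw [h, card_bot] at hcY; omega
      have hYt : Y ≠ ⊤ := fun h => by
        have := card_le_of_le hSL
        rw [h, card_top] at hcY
        rw [D.card_S] at this
        omega
      have h := hM₀min Y ⟨hYn, hYb, hYt⟩
      refine eq_of_le_of_card_ge inf_le_right ?_
      rw [hM, card_map_of_injective L.subtype_injective, hSM]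
      omega
    have hMS : M ≤ S := hFM ▸ inf_le_left
    have hM3 : Nat.card M = 3 := hFM ▸ hSM
    -- the same for the conjugate
    have hM'S : M' ≤ S := by
      have hz : zpowers y = M' := eq_of_le_of_card_ge (zpowers_le.2 hyM') (by
        rw [hcardM', hM3, Nat.card_zpowers, orderOf_eq_prime (D.exp_three hyS) hy1])
      rw [← hz]; exact zpowers_le.2 hyS
    have hsup : S = M ⊔ M' := by
      refine (eq_of_le_of_card_ge (sup_le hMS hM'S) ?_).symm
      have hd : 3 ∣ Nat.card ↥(M ⊔ M') := hM3 ▸ card_dvd_of_le le_sup_left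
      have hd' : Nat.card ↥(M ⊔ M') ∣ 3 ^ 2 :=
        (card_dvd_of_le (sup_le hMS hM'S)).trans (dvd_of_eq D.card_S)
      obtain ⟨k, hk, hc⟩ := (Nat.dvd_prime_pow Nat.prime_three).1 hd'
      interval_cases k
      · rw [hc] at hd; norm_num at hd
      · exfalso
        have e : M = M ⊔ M' := eq_of_le_of_card_ge le_sup_left (by rw [hc, hM3]; rfl)
        have : y ∈ M ⊓ M' := ⟨e ▸ mem_sup_right hyM', hyM'⟩
        rw [hinf] at this
        exact hy1 this
      · rw [hc, D.card_S]; rfl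
    refine hP (normal_of_normal_in L hSL ⟨fun a ha b => mem_subgroupOf.2 ?_⟩)
    have hle : S ≤ (M ⊔ M').comap (MulAut.conj (b : G)).toMonoidHom :=
      hsup.le.trans (sup_le (fun m hm => mem_sup_left (hMLn b b.2 m hm))
        (fun m hm => mem_sup_right (hM'Ln b b.2 m hm)))
    exact hsup.ge (hle (mem_subgroupOf.1 ha))))

end Cfsg.Agent.Lib.SixPointRecognition
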